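import Cfsg.Agent.CN.MinSimpleOdd
import Cfsg.Agent.ZJ.Complement
import Cfsg.Agent.Hall.Basic
import Cfsg.Agent.CoprimeAction.Factorization
import Cfsg.Agent.PReduced.Basic

/-!
Quotients of CN groups by normal solvable subgroups.
-/

set_option autoImplicit false

namespace CfsgLib.CN

open scoped Pointwise

variable {G : Type*} [Group G] [Finite G]

/-- If elements of coprime prime power orders commute, the group is nilpotent. -/
theorem isNilpotent_of_commute
    (h : ∀ (q r : ℕ), q.Prime → r.Prime → q ≠ r → ∀ (a b : G) (i j : ℕ), orderOf a = q ^ i → orderOf b = r ^ j → Commute a b) :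
    Group.IsNilpotent G := by
  refine (((Group.isNilpotent_of_finite_tfae (G := G)).out 0 3).2 ?_)
  intro q hq S
  haveI := hq
  rw [← Subgroup.normalizer_eq_top_iff, ← Subgroup.index_eq_one]
  by_contra hne
  obtain ⟨r, hr, hrd⟩ := Nat.exists_prime_and_dvd hne
  haveI := Fact.mk hr
  by_cases hrq : r = q
  · subst hrq
    exact S.not_dvd_index (hrd.trans (Subgroup.index_dvd_of_le Subgroup.le_normalizer))
  · obtain ⟨R⟩ : Nonempty (Sylow r G) := inferInstance
    refine R.not_dvd_index (hrd.trans (Subgroup.index_dvd_of_le fun b hb => Subgroup.mem_normalizer_fintype fun a ha => ?_))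
    obtain ⟨i, hi⟩ := IsPGroup.iff_orderOf.1 S.isPGroup' ⟨a, ha⟩
    obtain ⟨j, hj⟩ := IsPGroup.iff_orderOf.1 R.isPGroup' ⟨b, hb⟩
    rw [← Subgroup.orderOf_coe] at hi hj
    rw [show b * a * b⁻¹ = a by rw [(h r q hr hq.out hrq b a j i hj hi).eq, mul_inv_cancel_right]]
    exact ha

variable {p : ℕ} [hp : Fact p.Prime]

/-- Lift of a centralizing element through a normal `p`-subgroup. -/
theorem exists_commute_lift {V : Subgroup G} [hVn : V.Normal] (hV : IsPGroup p V) {r : ℕ} (hr : r.Prime) (hrp : r ≠ p)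
    {a : G} {i : ℕ} (ha : orderOf a = r ^ i) {g : G} (hg : g * a * g⁻¹ * a⁻¹ ∈ V) :
    ∃ v ∈ V, Commute (v * g) a := by
  haveI := Fact.mk hr
  set K := V ⊔ Subgroup.zpowers a with hK
  have hdis : V ⊓ Subgroup.zpowers a = ⊥ := Subgroup.inf_eq_bot_of_coprime (by
    obtain ⟨j, hj⟩ := hV.exists_card_eq
    rw [hj, Nat.card_zpowers, ha]
    exact Nat.coprime_pow_primes _ _ hp.out hr hrp.symm)
  have hga : g * a * g⁻¹ ∈ K := by
    rw [show g * a * g⁻¹ = g * a * g⁻¹ * a⁻¹ * a by group]
    exact K.mul_mem (Subgroup.mem_sup_left hg) (Subgroup.mem_sup_right (Subgroup.mem_zpowers a))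
  -- two Sylow subgroups of `K`
  have hcardK : Nat.card K ∣ Nat.card V * r ^ i := by
    refine ⟨Nat.card ↥(V ⊓ Subgroup.zpowers a), ?_⟩
    rw [← ha, ← Nat.card_zpowers, ← CfsgLib.Factorization.card_mul_set V (Subgroup.zpowers a),
      ← Subgroup.normal_mul V (Subgroup.zpowers a), ← Nat.card_coe_set_eq]
    rfl
  have hsyl : ∀ {Q : Subgroup G}, Q ≤ K → Nat.card Q = r ^ i → ∃ S : Sylow r K, (S : Subgroup K) = Q.subgroupOf K := by
    intro Q hQ hcard
    have hc : Nat.card (Q.subgroupOf K) = r ^ i :=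
      (Nat.card_congr (Subgroup.subgroupOfEquivOfLe hQ).toEquiv).trans hcard
    refine ⟨(IsPGroup.of_card hc).toSylow fun hd => ?_, rfl⟩
    obtain ⟨j, hj⟩ := hV.exists_card_eq
    have h1 : r ^ i * r ∣ r ^ i * Nat.card V := by
      refine dvd_trans ?_ (mul_comm (Nat.card V) (r ^ i) ▸ hcardK)
      rw [← (Q.subgroupOf K).card_mul_index, hc]
      exact mul_dvd_mul_left _ hd
    exact hrp ((Nat.prime_dvd_prime_iff_eq hr hp.out).1
      (hr.dvd_of_dvd_pow (hj ▸ Nat.dvd_of_mul_dvd_mul_left (pow_pos hr.pos i) h1)))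
  obtain ⟨S, hS⟩ := hsyl le_sup_right (by rw [Nat.card_zpowers, ha])
  obtain ⟨T, hT⟩ := hsyl (Q := Subgroup.zpowers (g * a * g⁻¹)) (Subgroup.zpowers_le.2 hga)
    (by rw [Nat.card_zpowers, ← ha, ← MulAut.conj_apply, MulEquiv.orderOf_eq])
  obtain ⟨k, hk⟩ := MulAction.exists_smul_eq K T S
  have hmem : (k : G) * (g * a * g⁻¹) * (k : G)⁻¹ ∈ Subgroup.zpowers a := by
    have h1 : k * ⟨g * a * g⁻¹, hga⟩ * k⁻¹ ∈ (S : Subgroup K) := by
      rw [← hk]
      refine ⟨⟨g * a * g⁻¹, hga⟩, ?_, rfl⟩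
      rw [hT]
      exact Subgroup.mem_subgroupOf.2 (Subgroup.mem_zpowers _)
    rw [hS] at h1
    exact h1
  obtain ⟨v, hv, w, hw, hk'⟩ := Subgroup.mem_sup_of_normal_left.1 k.2
  -- conjugate back by the cyclic part
  set v' := w⁻¹ * v * w with hv'def
  have hv' : v' ∈ V := by
    have := hVn.conj_mem v hv w⁻¹
    rwa [inv_inv] at this
  refine ⟨v', hv', mul_inv_eq_iff_eq_mul.1 ?_⟩
  have h2 : v' * g * a * (v' * g)⁻¹ ∈ Subgroup.zpowers a := by
    rw [show v' * g * a * (v' * g)⁻¹ = w⁻¹ * ((k : G) * (g * a * g⁻¹) * (k : G)⁻¹) * w by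
      rw [← hk', hv'def]; group]
    exact (Subgroup.zpowers a).mul_mem ((Subgroup.zpowers a).mul_mem ((Subgroup.zpowers a).inv_mem hw) hmem) hw
  have h3 : v' * g * a * (v' * g)⁻¹ * a⁻¹ ∈ V := by
    rw [show v' * g * a * (v' * g)⁻¹ * a⁻¹ = v' * (g * a * g⁻¹ * a⁻¹) * (a * v'⁻¹ * a⁻¹) by group]
    exact V.mul_mem (V.mul_mem hv' hg) (hVn.conj_mem _ (V.inv_mem hv') a)
  exact mul_inv_eq_one.1 (Subgroup.mem_bot.1 (hdis ▸
    ⟨h3, (Subgroup.zpowers a).mul_mem h2 ((Subgroup.zpowers a).inv_mem (Subgroup.mem_zpowers a))⟩))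

/-- A CN group modulo an abelian normal `p`-subgroup, with a central element in the quotient, is nilpotent. -/
theorem isNilpotent_quotient_of_central (hCN : Cfsg.IsCNGroup G) (V : Subgroup G) [hVn : V.Normal] (hV : IsPGroup p V)
    (hVc : ∀ a ∈ V, ∀ b ∈ V, Commute a b) (hVne : V ≠ ⊥) {x : G} (hxV : x ∉ V) {q : ℕ} (hq : q.Prime) {n : ℕ}
    (hx : orderOf x = q ^ n) (hcent : ∀ g : G, g * x * g⁻¹ * x⁻¹ ∈ V) :
    Group.IsNilpotent (G ⧸ V) := by
  have hx1 : x ≠ 1 := fun e => hxV (e ▸ V.one_mem)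
  by_cases hqp : q ≠ p
  · haveI := hCN x hx1
    refine Group.nilpotent_of_surjective ((QuotientGroup.mk' V).comp (Subgroup.centralizer ({x} : Set G)).subtype) fun z => ?_
    obtain ⟨g, rfl⟩ := QuotientGroup.mk'_surjective V z
    obtain ⟨v, hv, hvg⟩ := exists_commute_lift (p := p) hV hq hqp hx (hcent g)
    refine ⟨⟨v * g, Subgroup.mem_centralizer_singleton_iff.2 hvg.eq⟩, ?_⟩
    show QuotientGroup.mk' V (v * g) = QuotientGroup.mk' V g
    rw [map_mul, show QuotientGroup.mk' V v = 1 from (QuotientGroup.eq_one_iff v).2 hv, one_mul]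
  push Not at hqp
  subst hqp
  set P := V ⊔ Subgroup.zpowers x with hP
  have hxP : x ∈ P := Subgroup.mem_sup_right (Subgroup.mem_zpowers x)
  have hPp : IsPGroup q P := hV.to_sup_of_normal_left (IsPGroup.of_card (n := n) (by rw [Nat.card_zpowers, hx]))
  have hPn : P ≤ P.normalCore := by
    intro y hy g
    obtain ⟨v, hv, w, hw, rfl⟩ := Subgroup.mem_sup_of_normal_left.1 hy
    rw [show g * (v * w) * g⁻¹ = g * v * g⁻¹ * (g * w * g⁻¹) by group]
    refine P.mul_mem (Subgroup.mem_sup_left (hVn.conj_mem v hv g)) ?_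
    obtain ⟨k, rfl⟩ := Subgroup.mem_zpowers_iff.1 hw
    rw [← conj_zpow, show g * x * g⁻¹ = g * x * g⁻¹ * x⁻¹ * x by group]
    exact P.zpow_mem (P.mul_mem (Subgroup.mem_sup_left (hcent g)) hxP) k
  -- elements of order prime to `p` centralize `P`
  have hcomm : ∀ r : ℕ, r.Prime → r ≠ q → ∀ (a : G) (i : ℕ), orderOf a = r ^ i → ∀ y ∈ P, Commute a y := by
    intro r hr hrq a i ha
    by_cases ha1 : a = 1
    · subst ha1; intro y _; exact Commute.one_left y
    have hxa : x * a * x⁻¹ * a⁻¹ ∈ V := by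
      have := V.inv_mem (hcent a)
      rwa [show (a * x * a⁻¹ * x⁻¹)⁻¹ = x * a * x⁻¹ * a⁻¹ by group] at this
    obtain ⟨v, hv, hva⟩ := exists_commute_lift (p := q) hV hr hrq ha hxa
    set x' := v * x with hx'
    have hx'1 : x' ≠ 1 := fun e => hxV (by
      rw [show x = v⁻¹ * (v * x) by group, ← hx', e, mul_one]; exact V.inv_mem hv)
    obtain ⟨w, ⟨hw, hwV⟩, hwc, hw1⟩ : ∃ w, (w ∈ P ∧ w ∈ V) ∧ (∀ y ∈ P, Commute y w) ∧ w ≠ 1 := by
      have h0 : V.subgroupOf P ≠ ⊥ := fun e => hVne (by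
        rwa [Subgroup.subgroupOf_eq_bot, disjoint_iff, inf_eq_left.2 (le_sup_left : V ≤ P)] at e)
      obtain ⟨⟨w, hw, hwc⟩, hw1⟩ := Subgroup.ne_bot_iff_exists_ne_one.1 (CfsgLib.PReduced.inf_center_ne_bot hPp h0)
      exact ⟨w, ⟨w.2, hw⟩, fun y hy => congrArg Subtype.val (Subgroup.mem_center_iff.1 hwc ⟨y, hy⟩),
        fun e => hw1 (Subtype.ext (Subtype.ext e))⟩
    have hcop : ∀ {y : G}, y ∈ P → (orderOf a).Coprime (orderOf y) := by
      intro y hy
      obtain ⟨j, hj⟩ := IsPGroup.iff_orderOf.1 hPp ⟨y, hy⟩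
      rw [← Subgroup.orderOf_coe] at hj
      rw [ha, hj]
      exact Nat.coprime_pow_primes _ _ hr hp.out hrq
    have hx'P : x' ∈ P := P.mul_mem (Subgroup.mem_sup_left hv) hxP
    have haw : Commute a w := commute_of_mem (hCN x' hx'1) (Subgroup.mem_centralizer_singleton_iff.2 hva.symm.eq)
      (Subgroup.mem_centralizer_singleton_iff.2 ((hwc x' hx'P).symm).eq) (hcop hw)
    intro y hy
    exact commute_of_mem (hCN w hw1) (Subgroup.mem_centralizer_singleton_iff.2 haw.eq)
      (Subgroup.mem_centralizer_singleton_iff.2 (hwc y hy).eq) (hcop hy)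
  have hGnil : Group.IsNilpotent G := by
    refine isNilpotent_of_commute ?_
    have key : ∀ (r : ℕ), r.Prime → r ≠ q → ∀ (a b : G) (i j : ℕ), orderOf a = r ^ i → orderOf b = q ^ j → Commute a b := by
      intro r hr hrq a b i j ha hb
      set R := P ⊔ Subgroup.zpowers b with hR
      haveI : P.Normal := ⟨fun y hy g => hPn hy g⟩
      have hRp : IsPGroup q R := hPp.to_sup_of_normal_left (IsPGroup.of_card (n := j) (by rw [Nat.card_zpowers, hb]))
      have h0 : P.subgroupOf R ≠ ⊥ := fun e => hVne (le_bot_iff.1 (le_trans le_sup_left (show P ≤ ⊥ by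
        rw [Subgroup.subgroupOf_eq_bot, disjoint_iff, inf_eq_left.2 (le_sup_left : P ≤ R)] at e
        exact e.le)))
      obtain ⟨⟨w, hw, hwc⟩, hw1⟩ := Subgroup.ne_bot_iff_exists_ne_one.1 (CfsgLib.PReduced.inf_center_ne_bot hRp h0)
      exact commute_of_mem (hCN (w : G) fun e => hw1 (Subtype.ext (Subtype.ext e)))
        (Subgroup.mem_centralizer_singleton_iff.2 (hcomm r hr hrq a i ha (w : G) hw).eq)
        (Subgroup.mem_centralizer_singleton_iff.2
          (congrArg Subtype.val (Subgroup.mem_center_iff.1 hwc ⟨b, Subgroup.mem_sup_right (Subgroup.mem_zpowers b)⟩) :))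
        (by rw [ha, hb]; exact Nat.coprime_pow_primes _ _ hr hp.out hrq)
    intro s r hs hr hne a b i j ha hb
    by_cases hsq : s = q
    · subst hsq; exact (key r hr hne.symm b a j i hb ha).symm
    by_cases hrq : r = q
    · subst hrq; exact key s hs hsq a b i j ha hb
    exact commute_of_mem (hCN x hx1) (Subgroup.mem_centralizer_singleton_iff.2 (hcomm s hs hsq a i ha x hxP).eq)
      (Subgroup.mem_centralizer_singleton_iff.2 (hcomm r hr hrq b j hb x hxP).eq)
      (by rw [ha, hb]; exact Nat.coprime_pow_primes _ _ hs hr hne)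
  haveI := hGnil
  exact Group.nilpotent_of_surjective (QuotientGroup.mk' V) (QuotientGroup.mk'_surjective V)

/-- The quotient of a CN group by an abelian normal `p`-subgroup is CN. -/
theorem isCNGroup_quotient_abelian (hCN : Cfsg.IsCNGroup G) (V : Subgroup G) [hVn : V.Normal] (hV : IsPGroup p V)
    (hVc : ∀ a ∈ V, ∀ b ∈ V, Commute a b) (hVne : V ≠ ⊥) : Cfsg.IsCNGroup (G ⧸ V) := by
  intro z hz
  obtain ⟨g, rfl⟩ := QuotientGroup.mk'_surjective V z
  set π := QuotientGroup.mk' V with hπ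
  -- pass to a power whose image has prime order
  obtain ⟨q, hq, hqd⟩ := Nat.exists_prime_and_dvd (fun e => hz (orderOf_eq_one_iff.1 e) : orderOf (π g) ≠ 1)
  set m := orderOf g / q ^ (orderOf g).factorization q with hm
  set x := g ^ m with hxdef
  have hxo : orderOf x = q ^ (orderOf g).factorization q := by
    rw [hxdef, orderOf_pow_of_dvd (Nat.ordCompl_pos q (orderOf_pos g).ne').ne' (Nat.ordCompl_dvd _ _)]
    exact Nat.div_div_self (Nat.ordProj_dvd _ _) (orderOf_pos g).ne'
  have hxV : x ∉ V := fun hxV => by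
    have h1 : orderOf (π g) ∣ m := orderOf_dvd_of_pow_eq_one (by rw [← map_pow]; exact (QuotientGroup.eq_one_iff _).2 hxV)
    exact Nat.not_dvd_ordCompl hq (orderOf_pos g).ne' (hqd.trans h1)
  set L := (Subgroup.centralizer ({π x} : Set (G ⧸ V))).comap π with hL
  have hVL : V ≤ L := fun v hv => by
    rw [hL, Subgroup.mem_comap]
    rw [show π v = 1 from (QuotientGroup.eq_one_iff v).2 hv]
    exact one_mem _
  have hxL : x ∈ L := Subgroup.mem_centralizer_singleton_iff.2 rfl
  haveI : (V.subgroupOf L).Normal := inferInstance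
  have hnil : Group.IsNilpotent (↥L ⧸ V.subgroupOf L) := by
    refine isNilpotent_quotient_of_central (p := p) (MinOdd.isCNGroup_subgroup hCN L) (V.subgroupOf L) hV.comap_subtype
      (fun a ha b hb => Subtype.ext (hVc _ ha _ hb).eq) (fun e => hVne (by
        rwa [Subgroup.subgroupOf_eq_bot, disjoint_iff, inf_eq_left.2 hVL] at e))
      (x := ⟨x, hxL⟩) hxV hq ((Subgroup.orderOf_mk x hxL).trans hxo) fun y => ?_
    show (y : G) * x * (y : G)⁻¹ * x⁻¹ ∈ V
    have hy : π (y : G) * π x = π x * π (y : G) :=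
      Subgroup.mem_centralizer_singleton_iff.1 (show π (y : G) ∈ Subgroup.centralizer ({π x} : Set (G ⧸ V)) from y.2)
    refine (QuotientGroup.eq_one_iff _).1 ?_
    show π _ = 1
    rw [map_mul, map_mul, map_mul, map_inv, map_inv, hy]
    group
  haveI := hnil
  let ψ : ↥L ⧸ V.subgroupOf L →* ↥(Subgroup.centralizer ({π x} : Set (G ⧸ V))) :=
    QuotientGroup.lift (V.subgroupOf L) ((π.comp L.subtype).codRestrict _ fun y => y.2)
      (fun y hy => Subtype.ext ((QuotientGroup.eq_one_iff (y : G)).2 hy))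
  haveI : Group.IsNilpotent ↥(Subgroup.centralizer ({π x} : Set (G ⧸ V))) :=
    Group.nilpotent_of_surjective ψ fun c => by
      obtain ⟨y, hy⟩ := QuotientGroup.mk'_surjective V (c : G ⧸ V)
      exact ⟨QuotientGroup.mk' _ ⟨y, show π y ∈ _ from hy ▸ c.2⟩, Subtype.ext hy⟩
  have hle : Subgroup.centralizer ({π g} : Set (G ⧸ V)) ≤ Subgroup.centralizer ({π x} : Set (G ⧸ V)) := by
    intro y hy
    rw [hxdef, map_pow]
    exact Subgroup.mem_centralizer_singleton_iff.2
      ((show Commute y (π g) from Subgroup.mem_centralizer_singleton_iff.1 hy).pow_right m).eq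
  exact MinOdd.isNilpotent_of_inj (Subgroup.inclusion hle) (Subgroup.inclusion_injective hle)

end CfsgLib.CN

namespace CfsgLib.CN

universe u

theorem isCNGroup_of_injective {A B : Type*} [Group A] [Group B] (f : A →* B) (hf : Function.Injective f)
    (hB : Cfsg.IsCNGroup B) : Cfsg.IsCNGroup A := by
  intro a ha
  haveI := hB (f a) fun e => ha (hf (e.trans (map_one f).symm))
  exact MinOdd.isNilpotent_of_inj
    ((f.comp (Subgroup.centralizer ({a} : Set A)).subtype).codRestrict (Subgroup.centralizer ({f a} : Set B)) fun z =>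
      Subgroup.mem_centralizer_singleton_iff.2 (by
        show f (z : A) * f a = f a * f (z : A)
        rw [← map_mul, ← map_mul, Subgroup.mem_centralizer_singleton_iff.1 z.2]))
    fun x y e => Subtype.ext (hf (congrArg Subtype.val e :))

/-- The quotient of a CN group by a solvable normal subgroup is CN. -/
theorem isCNGroup_quotient_aux : ∀ (k : ℕ) {G : Type u} [Group G] [Finite G], Cfsg.IsCNGroup G →
    ∀ (H : Subgroup G) [H.Normal], Group.IsSolvable H → Nat.card H = k → Cfsg.IsCNGroup (G ⧸ H) := by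
  intro k
  induction k using Nat.strong_induction_on with
  | _ k ih =>
    intro G _ _ hCN H hHn hH hk
    by_cases hb : H = ⊥
    · subst hb
      exact isCNGroup_of_injective (QuotientGroup.quotientBot (G := G)).toMonoidHom (MulEquiv.injective _) hCN
    obtain ⟨V, hV, hVH⟩ := CfsgLib.Hall.exists_isMinNormal_le H hb
    haveI := hV.1
    haveI := hH
    haveI : Group.IsSolvable V := Group.isSolvable_of_isSolvable_injective (Subgroup.inclusion_injective hVH)
    obtain ⟨p, hp, hVc, hVp, -⟩ := hV.elementaryAbelian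
    haveI := Fact.mk hp
    have hVcn := isCNGroup_quotient_abelian hCN V hVp (fun a ha b hb => congrArg Subtype.val (mul_comm' (⟨a, ha⟩ : V) ⟨b, hb⟩)) hV.2.1
    haveI : (H.map (QuotientGroup.mk' V)).Normal := hHn.map _ (QuotientGroup.mk'_surjective V)
    have hsol : Group.IsSolvable (H.map (QuotientGroup.mk' V)) :=
      Group.isSolvable_of_surjective ((QuotientGroup.mk' V).subgroupMap_surjective H)
    have hlt : Nat.card (H.map (QuotientGroup.mk' V)) < k := by
      have h1 : Nat.card (H.map (QuotientGroup.mk' V)) * Nat.card V ∣ Nat.card H * 1 := by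
        rw [mul_one]
        refine ⟨1, ?_⟩
        rw [mul_one]
        have h2 : Nat.card V = Nat.card ((QuotientGroup.mk' V).subgroupMap H).ker := by
          rw [← Nat.card_congr (Subgroup.subgroupOfEquivOfLe hVH).toEquiv]
          refine Nat.card_congr (Equiv.subtypeEquivRight fun z => ?_)
          rw [MonoidHom.mem_ker, Subgroup.mem_subgroupOf, ← QuotientGroup.eq_one_iff (N := V)]
          exact ⟨fun e => Subtype.ext e, fun e => congrArg Subtype.val e⟩
        rw [h2, ← ((QuotientGroup.mk' V).subgroupMap H).ker.card_mul_index, Subgroup.index_ker,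
          MonoidHom.range_eq_top.2 ((QuotientGroup.mk' V).subgroupMap_surjective H), Subgroup.card_top, mul_comm]
      have hV1 : 1 < Nat.card V := (Subgroup.one_lt_card_iff_ne_bot V).2 hV.2.1
      rw [← hk]
      have := Nat.le_of_dvd (by rw [mul_one]; exact Nat.card_pos) h1
      have hpos : 0 < Nat.card (H.map (QuotientGroup.mk' V)) := Nat.card_pos
      nlinarith
    exact isCNGroup_of_injective (QuotientGroup.quotientQuotientEquivQuotient V H hVH).symm.toMonoidHom
      (MulEquiv.injective _) (ih _ hlt hVcn (H.map (QuotientGroup.mk' V)) hsol rfl)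

end CfsgLib.CN
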