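import Cfsg.Prelude.Def_OddOrderLocal
import Cfsg.Prelude.Def_OddOrder
import Cfsg.Agent.CN.Trichotomy
import Cfsg.Agent.QdFree.Corollaries
import Cfsg.Agent.ZJ.Glauberman
import Cfsg.Agent.ZJ.ZJ
import Cfsg.Agent.Transfer.Focal
import Cfsg.Agent.S3071
import Cfsg.Agent.LocalLemmas.Basic

/-!
Minimal simple CN groups of odd order: every maximal subgroup is a Frobenius group whose kernel is a maximal
nilpotent subgroup; these are TI Hall subgroups.
-/

set_option autoImplicit false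
set_option maxHeartbeats 800000

namespace CfsgLib.CN.MinOdd

open scoped commutatorElement

theorem isNilpotent_of_inj {A B : Type*} [Group A] [Group B] [Group.IsNilpotent B] (f : A →* B) (hf : Function.Injective f) :
    Group.IsNilpotent A :=
  Subgroup.isNilpotent_of_ker_le_center f (by rw [(MonoidHom.ker_eq_bot_iff f).2 hf]; exact bot_le)

theorem isNilpotent_zpowers {A : Type*} [Group A] (x : A) : Group.IsNilpotent (Subgroup.zpowers x) := by
  letI := IsCyclic.commGroup (α := Subgroup.zpowers x)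
  infer_instance

variable {G : Type*} [Group G] [Finite G]

/-- Nilpotent and in no larger nilpotent subgroup. -/
def MaxNil (H : Subgroup G) : Prop :=
  Group.IsNilpotent ↥H ∧ ∀ L : Subgroup G, Group.IsNilpotent L → H ≤ L → L = H

theorem isCNGroup_subgroup (hCN : Cfsg.IsCNGroup G) (M : Subgroup G) : Cfsg.IsCNGroup ↥M := by
  intro g hg
  haveI := hCN (g : G) fun e => hg (Subtype.ext e)
  have hle : ∀ z : ↥(Subgroup.centralizer ({g} : Set ↥M)), ((z : ↥M) : G) ∈ Subgroup.centralizer ({(g : G)} : Set G) :=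
    fun z => Subgroup.mem_centralizer_singleton_iff.2
      (congrArg Subtype.val (Subgroup.mem_centralizer_singleton_iff.1 z.2) :)
  exact isNilpotent_of_inj
    ((M.subtype.comp (Subgroup.centralizer ({g} : Set ↥M)).subtype).codRestrict _ hle)
    fun a b e => Subtype.ext (Subtype.ext (congrArg Subtype.val e :))

variable (hG : Cfsg.IsMinSimpleOddOrder G)

include hG

theorem commutator_eq_top : commutator G = ⊤ := by
  haveI := hG.2.1
  rcases (inferInstance : (commutator G).Normal).eq_bot_or_eq_top with h | h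
  · refine absurd ⟨⟨fun a b => ?_⟩⟩ hG.2.2.1
    have h1 : ⁅a, b⁆ ∈ commutator G := Subgroup.commutator_mem_commutator (Subgroup.mem_top a) (Subgroup.mem_top b)
    rw [h, Subgroup.mem_bot, commutatorElement_eq_one_iff_mul_comm] at h1
    exact h1
  · exact h

omit [Finite G] in
theorem isSolvable_of_ne_top {H : Subgroup G} (h : H ≠ ⊤) : Group.IsSolvable H := hG.2.2.2 H h

omit [Finite G] in
theorem normalizer_ne_top {H : Subgroup G} (h : H ≠ ⊥) (h' : H ≠ ⊤) : Subgroup.normalizer (H : Set G) ≠ ⊤ := by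
  intro e
  haveI := hG.2.1
  rcases (Subgroup.normalizer_eq_top_iff.1 e).eq_bot_or_eq_top with h1 | h1 <;> contradiction

theorem two_ne_of_dvd {p : ℕ} (hp : p ∣ Nat.card G) : p ≠ 2 := by
  rintro rfl
  exact Nat.not_even_iff_odd.2 hG.1 (even_iff_two_dvd.2 hp)

theorem ne_top_of_isPGroup {p : ℕ} [Fact p.Prime] {S : Subgroup G} (hS : IsPGroup p S) : S ≠ ⊤ := by
  rintro rfl
  haveI : Group.IsNilpotent ↥(⊤ : Subgroup G) := hS.isNilpotent
  haveI : Group.IsNilpotent G := Group.nilpotent_of_mulEquiv Subgroup.topEquiv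
  obtain ⟨n, hn⟩ := Subgroup.nilpotent_iff_lowerCentralSeries.1 (inferInstance : Group.IsNilpotent G)
  have h1 : ∀ m, (⊤ : Subgroup G).lowerCentralSeries m = ⊤ := by
    intro m
    induction m with
    | zero => rfl
    | succ m ih => rw [Subgroup.lowerCentralSeries_succ, ih]; exact commutator_eq_top hG
  haveI := hG.2.1
  exact bot_ne_top (α := Subgroup G) (hn ▸ h1 n)

/-- The key transfer lemma: a Sylow subgroup lies in every normal subgroup with nilpotent quotient of a subgroup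
containing the normalizer of the centre of its Thompson subgroup. -/
theorem sylow_le_of_quot {p : ℕ} [Fact p.Prime] (S : Sylow p G) (hp2 : p ≠ 2) (L : Subgroup G)
    (hL : Subgroup.normalizer (CfsgLib.ZJ.W p false (S : Subgroup G) : Set G) ≤ L) (K : Subgroup L) [K.Normal]
    (hK : Group.IsNilpotent (L ⧸ K)) : (S : Subgroup G) ≤ K.map L.subtype := by
  have hSL : (S : Subgroup G) ≤ L :=
    (Subgroup.le_normalizer.trans (CfsgLib.ZJ.normalizer_le_normalizer_W _)).trans hL
  have hctrl := Cfsg.Agent.S3071.result hp2 S fun P _ _ ⟨H, R, hR, _, ⟨e⟩⟩ => by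
    haveI := hR
    refine Nat.not_even_iff_odd.2 hG.1 (even_iff_two_dvd.2 (((CfsgLib.QdFree.two_dvd_card_sl2 hp2).trans ?_).trans
      (Subgroup.card_subgroup_dvd_card H)))
    rw [← Nat.card_congr e.toEquiv]
    exact Subgroup.card_quotient_dvd_card _
  rw [CfsgLib.ZJ.centerThompsonAOf_eq p] at hctrl
  have hfoc : (S : Subgroup G) ≤ ⁅(S : Subgroup G), L⁆ := by
    refine le_trans ?_ (CfsgLib.Transfer.focalSubgroup_le_commutator_of_control fun x hx g hg => ?_)
    · rw [← CfsgLib.Transfer.inf_commutator_eq_focal S, commutator_eq_top hG, inf_top_eq]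
    · obtain ⟨n, hn, he⟩ := (hctrl x hx _ hg).1 ⟨g, rfl⟩
      exact ⟨n, hL hn, he⟩
  have hlcs : ∀ n, (S : Subgroup G) ≤ L.lowerCentralSeries n := by
    intro n
    induction n with
    | zero => exact hSL
    | succ n ih => exact hfoc.trans (Subgroup.commutator_mono ih le_rfl)
  obtain ⟨n, hn⟩ := Subgroup.nilpotent_iff_lowerCentralSeries.1 hK
  refine (hlcs n).trans ?_
  rw [← Subgroup.top_subtype_lowerCentralSeries]
  refine Subgroup.map_mono fun z hz => (QuotientGroup.eq_one_iff z).1 ?_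
  have h1 : QuotientGroup.mk' K z ∈ ((⊤ : Subgroup L).lowerCentralSeries n).map (QuotientGroup.mk' K) := ⟨z, hz, rfl⟩
  rw [Subgroup.map_lowerCentralSeries, Subgroup.map_top_of_surjective _ (QuotientGroup.mk'_surjective K), hn,
    Subgroup.mem_bot] at h1
  exact h1

omit [Finite G] in
theorem coatom_ne_bot {M : Subgroup G} (hM : IsCoatom M) : M ≠ ⊥ := by
  rintro rfl
  haveI := hG.2.1
  obtain ⟨x, hx⟩ := exists_ne (1 : G)
  have hz : Subgroup.zpowers x = ⊤ := hM.2 _ (bot_lt_iff_ne_bot.2 fun e => hx (Subgroup.zpowers_eq_bot.1 e))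
  refine hG.2.2.1 ⟨⟨fun a b => ?_⟩⟩
  obtain ⟨i, rfl⟩ := Subgroup.mem_zpowers_iff.1 (hz.ge (Subgroup.mem_top a))
  obtain ⟨j, rfl⟩ := Subgroup.mem_zpowers_iff.1 (hz.ge (Subgroup.mem_top b))
  exact (Commute.zpow_zpow_self x i j).eq

/-- A maximal subgroup normalizing a nontrivial proper subgroup is its normalizer. -/
theorem normalizer_eq_of_coatom {M H : Subgroup G} (hM : IsCoatom M) (h : H ≠ ⊥) (h' : H ≠ ⊤)
    (hle : M ≤ Subgroup.normalizer (H : Set G)) : Subgroup.normalizer (H : Set G) = M :=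
  (hM.le_iff.1 hle).resolve_left (normalizer_ne_top hG h h')

theorem exists_coatom_normalizer_le {H : Subgroup G} (h : H ≠ ⊥) (h' : H ≠ ⊤) :
    ∃ M : Subgroup G, IsCoatom M ∧ Subgroup.normalizer (H : Set G) ≤ M :=
  (eq_top_or_exists_le_coatom _).resolve_left (normalizer_ne_top hG h h')

/-- If `Z J` of a Sylow subgroup `T` of a maximal `M` is normal in `M`, then `T` is a Sylow subgroup of `G`. -/
theorem sylow_of_normal_W {p : ℕ} [Fact p.Prime] {M : Subgroup G} (hM : IsCoatom M) (T : Sylow p M)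
    (hT : (T : Subgroup M) ≠ ⊥) (hn : (CfsgLib.ZJ.W p false (T : Subgroup M)).Normal) :
    ∃ S : Sylow p G, (S : Subgroup G) = (T : Subgroup M).map M.subtype ∧
      Subgroup.normalizer (CfsgLib.ZJ.W p false (S : Subgroup G) : Set G) = M := by
  set T' := (T : Subgroup M).map M.subtype with hT'
  have hW : CfsgLib.ZJ.W p false T' = (CfsgLib.ZJ.W p false (T : Subgroup M)).map M.subtype :=
    CfsgLib.ZJ.W_map M.subtype fun x _ hx => M.subtype_injective (hx.trans (map_one _).symm)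
  have hTne : T' ≠ ⊥ := fun e => hT ((Subgroup.map_eq_bot_iff_of_injective _ M.subtype_injective).1 e)
  have hWne : CfsgLib.ZJ.W p false T' ≠ ⊥ := CfsgLib.ZJ.W_ne_bot (T.isPGroup'.map _) hTne
  have hMN : M ≤ Subgroup.normalizer (CfsgLib.ZJ.W p false T' : Set G) := by
    rw [hW]
    intro m hm
    refine Subgroup.mem_normalizer_fintype ?_
    rintro _ ⟨w, hw, rfl⟩
    exact ⟨⟨m, hm⟩ * w * ⟨m, hm⟩⁻¹, hn.conj_mem w hw _, rfl⟩
  have hNM := normalizer_eq_of_coatom hG hM hWne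
    (fun e => ne_top_of_isPGroup hG (T.isPGroup'.map _) (top_le_iff.1 (e ▸ CfsgLib.ZJ.W_le T'))) hMN
  obtain ⟨S, hS⟩ := (T.isPGroup'.map M.subtype).exists_le_sylow
  have hST : (S : Subgroup G) = T' := by
    refine le_antisymm ?_ hS
    by_contra hlt
    obtain ⟨x, ⟨hxS, hxN⟩, hxT⟩ := SetLike.not_le_iff_exists.1
      (CfsgLib.Signalizer.exists_mem_normalizer_of_lt S.isPGroup' (lt_of_le_not_ge hS hlt))
    refine hxT ?_
    have hxM : x ∈ M := hNM.le (CfsgLib.ZJ.normalizer_le_normalizer_W _ hxN)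
    have hTS : (T : Subgroup M) ≤ (S : Subgroup G).subgroupOf M := fun a ha => hS ⟨a, ha, rfl⟩
    have h := T.3 S.isPGroup'.comap_subtype hTS
    exact ⟨⟨x, hxM⟩, h.le hxS, rfl⟩
  exact ⟨S, hST, hST ▸ hNM⟩

variable (hCN : Cfsg.IsCNGroup G)

include hCN

omit hG in
/-- Outside the kernel no element fixes a nontrivial element of the kernel. -/
theorem fix_all {M F E : Subgroup G} (hc : Cfsg.IsComplIn F E M) (hn : M ≤ Subgroup.normalizer (F : Set G))
    (hfix : ∀ e ∈ E, e ≠ 1 → F ⊓ Subgroup.centralizer ({e} : Set G) = ⊥) :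
    ∀ m ∈ M, m ∉ F → F ⊓ Subgroup.centralizer ({m} : Set G) = ⊥ := by
  intro m hm hmF
  obtain ⟨f, hf, e, he, rfl⟩ := hc.2.2.2 m hm
  have he1 : e ≠ 1 := fun h => hmF (by rwa [h, mul_one])
  have hmem : ∀ u : F, (u : G) * e * (u : G)⁻¹ * e⁻¹ ∈ F := fun u => by
    rw [show (u : G) * e * (u : G)⁻¹ * e⁻¹ = u * (e * (u : G)⁻¹ * e⁻¹) by group]
    exact F.mul_mem u.2 ((Subgroup.mem_normalizer_iff.1 (hn (hc.2.1 he)) _).1 (F.inv_mem u.2))
  let φ : F → F := fun u => ⟨(u : G) * e * (u : G)⁻¹ * e⁻¹, hmem u⟩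
  have hφ : Function.Injective φ := by
    intro u v h
    have h1 : (u : G) * e * (u : G)⁻¹ * e⁻¹ = (v : G) * e * (v : G)⁻¹ * e⁻¹ := congrArg Subtype.val h
    have h2 : ((v : G)⁻¹ * u) * e = e * ((v : G)⁻¹ * u) := by
      calc ((v : G)⁻¹ * u) * e = (v : G)⁻¹ * ((u : G) * e * (u : G)⁻¹ * e⁻¹) * (e * u) := by group
        _ = e * ((v : G)⁻¹ * u) := by rw [h1]; group
    have h3 : (v : G)⁻¹ * u ∈ F ⊓ Subgroup.centralizer ({e} : Set G) :=
      ⟨F.mul_mem (F.inv_mem v.2) u.2, Subgroup.mem_centralizer_singleton_iff.2 h2⟩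
    rw [hfix e he he1, Subgroup.mem_bot, inv_mul_eq_one] at h3
    exact (Subtype.ext h3).symm
  obtain ⟨u, hu⟩ := (Finite.injective_iff_surjective.1 hφ) ⟨f, hf⟩
  have hfe : f * e = (u : G) * e * (u : G)⁻¹ := by
    rw [← show (u : G) * e * (u : G)⁻¹ * e⁻¹ = f from congrArg Subtype.val hu]; group
  rw [eq_bot_iff]
  rintro y ⟨hy, hyc⟩
  rw [hfe] at hyc
  have hyc' := Subgroup.mem_centralizer_singleton_iff.1 hyc
  have h4 : (u : G)⁻¹ * y * u ∈ F ⊓ Subgroup.centralizer ({e} : Set G) := by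
    refine ⟨F.mul_mem (F.mul_mem (F.inv_mem u.2) hy) u.2, Subgroup.mem_centralizer_singleton_iff.2 ?_⟩
    calc (u : G)⁻¹ * y * u * e = (u : G)⁻¹ * (y * ((u : G) * e * (u : G)⁻¹)) * u := by group
      _ = e * ((u : G)⁻¹ * y * u) := by rw [hyc']; group
  rw [hfix e he he1, Subgroup.mem_bot] at h4
  rw [Subgroup.mem_bot]
  calc y = (u : G) * ((u : G)⁻¹ * y * u) * (u : G)⁻¹ := by group
    _ = 1 := by rw [h4]; group

theorem maximal_complement {M : Subgroup G} (hM : IsCoatom M) :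
    (Nat.card (Cfsg.fittingSubgroup M)).Coprime (Cfsg.fittingSubgroup M).index ∧ ∃ E : Subgroup M,
      Subgroup.IsComplement' (Cfsg.fittingSubgroup M) E ∧ E ≠ ⊥ ∧ Group.IsNilpotent E ∧
      (∀ e ∈ E, e ≠ 1 → Cfsg.fittingSubgroup M ⊓ Subgroup.centralizer ({e} : Set M) = ⊥) := by
  haveI := isSolvable_of_ne_top hG hM.1
  have hnn : ¬ Group.IsNilpotent M := by
    intro hnil
    obtain ⟨p, hp, hpd⟩ := Nat.exists_prime_and_dvd
      (show Nat.card M ≠ 1 from fun e => coatom_ne_bot hG hM (Subgroup.eq_bot_of_card_eq _ e))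
    haveI := Fact.mk hp
    haveI := hnil
    have hp2 := two_ne_of_dvd hG (hpd.trans (Subgroup.card_subgroup_dvd_card M))
    obtain ⟨T⟩ : Nonempty (Sylow p M) := inferInstance
    have hn : (CfsgLib.ZJ.W p false (T : Subgroup M)).Normal := by
      rw [← Subgroup.normalizer_eq_top_iff, eq_top_iff]
      refine le_trans ?_ (CfsgLib.ZJ.normalizer_le_normalizer_W _)
      rw [Subgroup.normalizer_eq_top_iff.2 inferInstance]
    obtain ⟨S, hST, hNM⟩ := sylow_of_normal_W hG hM T (T.ne_bot_of_dvd_card hpd) hn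
    haveI : Group.IsNilpotent (↥M ⧸ (⊥ : Subgroup M)) :=
      Group.nilpotent_of_surjective (QuotientGroup.mk' ⊥) (QuotientGroup.mk'_surjective ⊥)
    have h := sylow_le_of_quot hG S hp2 M hNM.le ⊥ inferInstance
    rw [Subgroup.map_bot, le_bot_iff] at h
    exact S.ne_bot_of_dvd_card (hpd.trans (Subgroup.card_subgroup_dvd_card M)) h
  rcases CfsgLib.CN.solvable_dichotomy (isCNGroup_subgroup hCN M) hnn with
    ⟨hcop, E, hE, hEne, hfix, hEnil⟩ | ⟨p, hp, hFP, A, -, hPAn, hPAt, ⟨n, hn⟩, -⟩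
  · exact ⟨hcop, E, hE, hEne, hEnil, hfix⟩
  exfalso
  haveI := Fact.mk hp
  haveI := hPAn
  have hn0 : n ≠ 0 := fun e => hPAt (Subgroup.index_eq_one.1 (by rw [hn, e, pow_zero]))
  have hpd : p ∣ Nat.card M := (dvd_pow_self p hn0).trans (hn ▸ Subgroup.index_dvd_card _)
  have hp2 := two_ne_of_dvd hG (hpd.trans (Subgroup.card_subgroup_dvd_card M))
  have hc : Subgroup.centralizer (Cfsg.pCore p M : Set M) ≤ Cfsg.pCore p M := by
    rw [← hFP]; exact CfsgLib.Hall.centralizer_fitting_le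
  have hodd : Odd (Nat.card M) := hG.1.of_dvd_nat (Subgroup.card_subgroup_dvd_card M)
  obtain ⟨T⟩ : Nonempty (Sylow p M) := inferInstance
  have hW : (CfsgLib.ZJ.W p false (T : Subgroup M)).Normal :=
    CfsgLib.ZJ.W_normal_sylow hp2 hc (fun B _ hB => CfsgLib.ZJ.isPStableOn_of_isNormalizerPStable
      (CfsgLib.QdFree.isNormalizerPStable_of_odd hodd hp2) B hB) T
  obtain ⟨S, hST, hNM⟩ := sylow_of_normal_W hG hM T (T.ne_bot_of_dvd_card hpd) hW
  have hnilq : Group.IsNilpotent (↥M ⧸ (Cfsg.pCore p M ⊔ A)) :=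
    (IsPGroup.of_card (p := p) (n := n) (by rw [← Subgroup.index_eq_card, hn])).isNilpotent
  have h := sylow_le_of_quot hG S hp2 M hNM.le _ hnilq
  rw [hST, Subgroup.map_le_map_iff_of_injective M.subtype_injective] at h
  exact T.not_dvd_index ((hn ▸ dvd_pow_self p hn0).trans (Subgroup.index_dvd_of_le h))

/-- The maximal subgroups are Frobenius groups. -/
theorem frobenius_maximal {M : Subgroup G} (hM : IsCoatom M) :
    MaxNil (Cfsg.fittingOf M) ∧ Cfsg.fittingOf M ≠ ⊥ ∧ Subgroup.normalizer (Cfsg.fittingOf M : Set G) = M ∧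
      ∃ E : Subgroup G, Cfsg.IsComplIn (Cfsg.fittingOf M) E M ∧ E ≠ ⊥ ∧ Group.IsNilpotent E ∧
        (∀ e ∈ E, e ≠ 1 → Cfsg.fittingOf M ⊓ Subgroup.centralizer ({e} : Set G) = ⊥) := by
  haveI := isSolvable_of_ne_top hG hM.1
  haveI hFn : (Cfsg.fittingSubgroup M).Normal := CfsgLib.Components.fittingSubgroup_normal
  haveI hFnil : Group.IsNilpotent (Cfsg.fittingSubgroup M) := CfsgLib.Components.fittingSubgroup_isNilpotent
  obtain ⟨hcop, E₀, hE, hEne, hEnil, hfix⟩ := maximal_complement hG hCN hM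
  set F := Cfsg.fittingOf M with hF
  have hFM : F ≤ M := Subgroup.map_subtype_le _
  have hmemF : ∀ m : M, (m : G) ∈ F ↔ m ∈ Cfsg.fittingSubgroup M :=
    fun m => ⟨fun ⟨a, ha, hae⟩ => Subtype.ext hae ▸ ha, fun h => ⟨m, h, rfl⟩⟩
  have hFne : F ≠ ⊥ := fun e => by
    have h0 : Cfsg.fittingSubgroup M = ⊥ := (Subgroup.map_eq_bot_iff_of_injective _ M.subtype_injective).1 e
    have h1 := CfsgLib.Hall.centralizer_fitting_le (G := M)
    rw [h0] at h1
    refine coatom_ne_bot hG hM (eq_bot_iff.2 fun m hm => ?_)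
    have h2 := h1 (show (⟨m, hm⟩ : M) ∈ Subgroup.centralizer ((⊥ : Subgroup M) : Set M) from
      Subgroup.mem_centralizer_iff.2 fun a ha => by
        rw [SetLike.mem_coe, Subgroup.mem_bot] at ha
        rw [ha, one_mul, mul_one])
    rw [Subgroup.mem_bot] at h2 ⊢
    exact congrArg Subtype.val h2
  have hMN : M ≤ Subgroup.normalizer (F : Set G) := fun m hm => Subgroup.mem_normalizer_fintype (by
    rintro _ ⟨a, ha, rfl⟩
    exact ⟨⟨m, hm⟩ * a * ⟨m, hm⟩⁻¹, hFn.conj_mem a ha _, rfl⟩)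
  have hNM := normalizer_eq_of_coatom hG hM hFne (fun e => hM.1 (top_le_iff.1 (e ▸ hFM))) hMN
  set E := E₀.map M.subtype with hE'
  have hc : Cfsg.IsComplIn F E M := by
    refine ⟨hFM, Subgroup.map_subtype_le _, ?_, fun m hm => ?_⟩
    · rw [hF, hE', Cfsg.fittingOf, ← Subgroup.map_inf _ _ _ M.subtype_injective, disjoint_iff.1 hE.disjoint,
        Subgroup.map_bot]
    · obtain ⟨⟨a, b⟩, hab, -⟩ := hE.existsUnique (⟨m, hm⟩ : M)
      exact ⟨_, ⟨a.1, a.2, rfl⟩, _, ⟨b.1, b.2, rfl⟩, (congrArg Subtype.val hab).symm⟩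
  have hfix' : ∀ e ∈ E, e ≠ 1 → F ⊓ Subgroup.centralizer ({e} : Set G) = ⊥ := by
    rintro _ ⟨e, he, rfl⟩ he1
    rw [eq_bot_iff]
    rintro _ ⟨⟨a, ha, rfl⟩, hac⟩
    have h : a ∈ Cfsg.fittingSubgroup M ⊓ Subgroup.centralizer ({e} : Set M) :=
      ⟨ha, Subgroup.mem_centralizer_singleton_iff.2 (Subtype.ext (Subgroup.mem_centralizer_singleton_iff.1 hac))⟩
    rw [hfix e he fun h => he1 (by rw [h]; rfl), Subgroup.mem_bot] at h
    rw [Subgroup.mem_bot, h]; rfl
  haveI hFnil' : Group.IsNilpotent F :=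
    Group.nilpotent_of_mulEquiv ((Cfsg.fittingSubgroup M).equivMapOfInjective _ M.subtype_injective)
  refine ⟨⟨hFnil', fun L hL hFL => ?_⟩, hFne, hNM, E, hc, ?_, ?_, hfix'⟩
  rotate_left
  · exact fun e => hEne ((Subgroup.map_eq_bot_iff_of_injective _ M.subtype_injective).1 e)
  · haveI := hEnil
    exact Group.nilpotent_of_mulEquiv (E₀.equivMapOfInjective _ M.subtype_injective)
  · refine le_antisymm ?_ hFL
    by_contra hlt
    haveI := hL
    have hlt' : F.subgroupOf L < ⊤ := lt_top_iff_ne_top.2 fun h => hlt (Subgroup.subgroupOf_eq_top.1 h)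
    obtain ⟨l, hl, hlF⟩ := SetLike.exists_of_lt (Group.normalizerCondition_of_isNilpotent _ hlt')
    have hlM : (l : G) ∈ M := hNM.le (Subgroup.mem_normalizer_fintype fun a ha => by
      have h2 := (Subgroup.mem_normalizer_iff.1 hl ⟨a, hFL ha⟩).1 ha
      exact h2)
    obtain ⟨f, hf, e, he, hfe⟩ := hc.2.2.2 (l : G) hlM
    have heL : e ∈ L := by
      rw [show e = f⁻¹ * (l : G) by rw [hfe]; group]
      exact L.mul_mem (L.inv_mem (hFL hf)) l.2
    have he1 : e ≠ 1 := fun h => hlF (show (l : G) ∈ F by rw [hfe, h, mul_one]; exact hf)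
    have hcopF : (orderOf e).Coprime (Nat.card F) := by
      refine Nat.Coprime.coprime_dvd_left ?_ (?_ : (Nat.card E).Coprime (Nat.card F))
      · exact (Subgroup.orderOf_mk e he) ▸ orderOf_dvd_natCard (⟨e, he⟩ : E)
      · rw [hE', hF, Cfsg.fittingOf, Subgroup.card_map_of_injective M.subtype_injective,
          Subgroup.card_map_of_injective M.subtype_injective, ← hE.symm.index_eq_card]
        exact hcop.symm
    refine hFne (le_bot_iff.1 ((hfix' e he he1) ▸ le_inf le_rfl fun a ha => ?_))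
    refine Subgroup.mem_centralizer_singleton_iff.2 (CfsgLib.CN.commute_of_mem hL (hFL ha) heL ?_).eq
    exact (hcopF.coprime_dvd_right ((Subgroup.orderOf_mk a ha) ▸ orderOf_dvd_natCard (⟨a, ha⟩ : F))).symm

/-- A nontrivial maximal nilpotent subgroup containing a Sylow subgroup is determined by it. -/
theorem eq_of_sylow_le {p : ℕ} [Fact p.Prime] (hp : p ∣ Nat.card G) (S : Sylow p G) {H H' : Subgroup G}
    (hH : MaxNil H) (hH' : MaxNil H') (h : (S : Subgroup G) ≤ H) (h' : (S : Subgroup G) ≤ H') : H = H' := by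
  haveI := (S : Subgroup G).nontrivial_iff_ne_bot.2 (S.ne_bot_of_dvd_card hp)
  haveI := S.isPGroup'.center_nontrivial
  obtain ⟨z, hz⟩ := exists_ne (1 : Subgroup.center ↥(S : Subgroup G))
  set y : G := ((z : ↥(S : Subgroup G)) : G) with hy
  have hy1 : y ≠ 1 := fun e => hz (Subtype.ext (Subtype.ext e))
  have key : ∀ {K : Subgroup G}, MaxNil K → (S : Subgroup G) ≤ K →
      Subgroup.centralizer ({y} : Set G) = K := by
    intro K hK hle
    refine CfsgLib.CN.centralizer_eq hCN hK.2 hy1 (CfsgLib.CN.le_centralizer_of_sylow hK.1 (S.subtype hle)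
      (w := ⟨y, hle (z : ↥(S : Subgroup G)).2⟩) ?_ fun a ha => Subtype.ext ?_)
    · exact (z : ↥(S : Subgroup G)).2
    · exact (congrArg Subtype.val (Subgroup.mem_center_iff.1 z.2 ⟨(a : G), ha⟩) :)
  exact (key hH h).symm.trans (key hH' h')

/-- Every Sylow subgroup lies in the kernel of some maximal subgroup. -/
theorem exists_kernel_sylow {p : ℕ} [Fact p.Prime] (hp : p ∣ Nat.card G) (S : Sylow p G) :
    ∃ M : Subgroup G, IsCoatom M ∧ (S : Subgroup G) ≤ Cfsg.fittingOf M := by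
  have hne := CfsgLib.ZJ.W_ne_bot (el := false) S.isPGroup' (S.ne_bot_of_dvd_card hp)
  obtain ⟨M, hM, hle⟩ := exists_coatom_normalizer_le hG hne
    (fun e => ne_top_of_isPGroup hG S.isPGroup' (top_le_iff.1 (e ▸ CfsgLib.ZJ.W_le _)))
  refine ⟨M, hM, ?_⟩
  haveI hFn : (Cfsg.fittingSubgroup M).Normal := CfsgLib.Components.fittingSubgroup_normal
  obtain ⟨-, E, hE, -, hEnil, -⟩ := maximal_complement hG hCN hM
  haveI := hEnil
  refine sylow_le_of_quot hG S (two_ne_of_dvd hG hp) M hle (Cfsg.fittingSubgroup M) ?_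
  exact Group.nilpotent_of_surjective ((QuotientGroup.mk' (Cfsg.fittingSubgroup M)).comp E.subtype) fun z => by
    obtain ⟨m, rfl⟩ := QuotientGroup.mk'_surjective _ z
    obtain ⟨⟨a, b⟩, hab, -⟩ := hE.existsUnique m
    refine ⟨b, ?_⟩
    show QuotientGroup.mk' _ (b : M) = _
    rw [← hab, map_mul, show QuotientGroup.mk' (Cfsg.fittingSubgroup M) (a : M) = 1 from
      (QuotientGroup.eq_one_iff _).2 a.2, one_mul]

theorem exists_maxNil_le {H : Subgroup G} (hH : Group.IsNilpotent H) :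
    ∃ L : Subgroup G, H ≤ L ∧ MaxNil L := by
  obtain ⟨L, hle, hL⟩ := (Set.toFinite {L : Subgroup G | Group.IsNilpotent L}).exists_le_maximal hH
  exact ⟨L, hle, hL.1, fun K hK hLK => le_antisymm (hL.2 hK hLK) hLK⟩

theorem maxNil_ne_bot {H : Subgroup G} (hH : MaxNil H) : H ≠ ⊥ := by
  rintro rfl
  haveI := hG.2.1
  obtain ⟨x, hx⟩ := exists_ne (1 : G)
  exact hx (Subgroup.zpowers_eq_bot.1 (hH.2 (Subgroup.zpowers x) (isNilpotent_zpowers x) bot_le))

theorem exists_sylow_le {p : ℕ} [Fact p.Prime] {H : Subgroup G} (hH : MaxNil H) (hd : p ∣ Nat.card H) :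
    ∃ S : Sylow p G, (S : Subgroup G) ≤ H := by
  obtain ⟨P⟩ : Nonempty (Sylow p H) := inferInstance
  refine ⟨(P.isPGroup'.map H.subtype).toSylow (CfsgLib.CN.not_dvd_index hCN hH.1 hH.2 P hd), ?_⟩
  exact Subgroup.map_subtype_le _

/-- The maximal nilpotent subgroups are the kernels of the maximal subgroups. -/
theorem eq_fittingOf {H : Subgroup G} (hH : MaxNil H) :
    ∃ M : Subgroup G, IsCoatom M ∧ Subgroup.normalizer (H : Set G) = M ∧ H = Cfsg.fittingOf M := by
  obtain ⟨p, hp, hpd⟩ := Nat.exists_prime_and_dvd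
    (show Nat.card H ≠ 1 from fun e => maxNil_ne_bot hG hCN hH (Subgroup.eq_bot_of_card_eq _ e))
  haveI := Fact.mk hp
  have hpG := hpd.trans (Subgroup.card_subgroup_dvd_card H)
  obtain ⟨S, hS⟩ := exists_sylow_le hG hCN hH hpd
  obtain ⟨M, hM, hSM⟩ := exists_kernel_sylow hG hCN hpG S
  obtain ⟨hmax, -, hN, -⟩ := frobenius_maximal hG hCN hM
  obtain rfl := eq_of_sylow_le hG hCN hpG S hH hmax hS hSM
  exact ⟨M, hM, hN, rfl⟩

theorem coprime_index {H : Subgroup G} (hH : MaxNil H) : (Nat.card H).Coprime H.index := by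
  refine Nat.coprime_of_dvd fun p hp hd hi => ?_
  haveI := Fact.mk hp
  obtain ⟨S, hS⟩ := exists_sylow_le hG hCN hH hd
  exact S.not_dvd_index (hi.trans (Subgroup.index_dvd_of_le hS))

omit hCN hG in
theorem maxNil_map {H : Subgroup G} (hH : MaxNil H) (g : G) : MaxNil (H.map (MulAut.conj g).toMonoidHom) := by
  set c := (MulAut.conj g).toMonoidHom with hc
  haveI := hH.1
  refine ⟨Group.nilpotent_of_mulEquiv (H.equivMapOfInjective c (MulAut.conj g).injective), fun L hL hle => ?_⟩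
  haveI := hL
  have h1 : L.comap c = H := hH.2 (L.comap c)
    (isNilpotent_of_inj (c.subgroupComap L) fun a b e => Subtype.ext ((MulAut.conj g).injective (congrArg Subtype.val e :))) (Subgroup.map_le_iff_le_comap.1 hle)
  rw [← h1, Subgroup.map_comap_eq_self_of_surjective (MulAut.conj g).surjective]

/-- Two maximal nilpotent subgroups sharing a prime are conjugate. -/
theorem exists_conj_of_dvd {p : ℕ} (hp : p.Prime) {H H' : Subgroup G} (hH : MaxNil H) (hH' : MaxNil H')
    (hd : p ∣ Nat.card H) (hd' : p ∣ Nat.card H') : ∃ g : G, H' = H.map (MulAut.conj g).toMonoidHom := by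
  haveI := Fact.mk hp
  obtain ⟨S, hS⟩ := exists_sylow_le hG hCN hH hd
  obtain ⟨S', hS'⟩ := exists_sylow_le hG hCN hH' hd'
  obtain ⟨g, hg⟩ := MulAction.exists_smul_eq G S S'
  refine ⟨g, eq_of_sylow_le hG hCN (hd.trans (Subgroup.card_subgroup_dvd_card H)) S' hH' (maxNil_map hH g) hS' ?_⟩
  rw [← hg]
  exact Subgroup.map_mono hS

/-- The maximal nilpotent subgroups are TI. -/
theorem inf_conj_eq_bot {H : Subgroup G} (hH : MaxNil H) (g : G)
    (hne : H.map (MulAut.conj g).toMonoidHom ≠ H) : H ⊓ H.map (MulAut.conj g).toMonoidHom = ⊥ := by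
  by_cases hpp : IsPrimePow (Nat.card H)
  swap
  · exact CfsgLib.CN.inf_eq_bot_of_ne hCN hH.1 (maxNil_map hH g).1 hH.2 (maxNil_map hH g).2
      (Subgroup.card_map_of_injective (MulAut.conj g).injective) hpp
      (fun e => maxNil_ne_bot hG hCN hH (Subgroup.eq_bot_of_card_eq _ e)) hne
  obtain ⟨p, k, hp', hk, hcard⟩ := hpp
  have hp : p.Prime := Nat.prime_iff.2 hp'
  haveI := Fact.mk hp
  have hd : p ∣ Nat.card H := hcard ▸ dvd_pow_self p hk.ne'
  have hpG := hd.trans (Subgroup.card_subgroup_dvd_card H)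
  obtain ⟨S₀, hS₀⟩ := exists_sylow_le hG hCN hH hd
  have hS₀H : (S₀ : Subgroup G) = H := (S₀.3 (IsPGroup.of_card hcard.symm) hS₀).symm
  have hSmax : ∀ S : Sylow p G, MaxNil (S : Subgroup G) := by
    intro S
    obtain ⟨u, hu⟩ := MulAction.exists_smul_eq G S₀ S
    rw [← hu]
    show MaxNil ((S₀ : Subgroup G).map (MulAut.conj u).toMonoidHom)
    rw [hS₀H]
    exact maxNil_map hH u
  by_contra hD
  classical
  obtain ⟨⟨S, S'⟩, ⟨hne', hD'⟩, hmax⟩ := (Set.toFinite {q : Sylow p G × Sylow p G |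
      q.1 ≠ q.2 ∧ (q.1 : Subgroup G) ⊓ q.2 ≠ ⊥}).exists_maximalFor
    (fun q => Nat.card ↥((q.1 : Subgroup G) ⊓ q.2)) _ ⟨(S₀, g • S₀), by
      refine ⟨fun e => hne ?_, ?_⟩
      · have h := congrArg (fun Q : Sylow p G => (Q : Subgroup G)) e
        change (S₀ : Subgroup G) = (S₀ : Subgroup G).map (MulAut.conj g).toMonoidHom at h
        rw [hS₀H] at h
        exact h.symm
      · show (S₀ : Subgroup G) ⊓ (S₀ : Subgroup G).map (MulAut.conj g).toMonoidHom ≠ ⊥
        rwa [hS₀H]⟩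
  set D := (S : Subgroup G) ⊓ S' with hDdef
  have hDp : IsPGroup p D := S.isPGroup'.to_le inf_le_left
  obtain ⟨M, hM, hNM⟩ := exists_coatom_normalizer_le hG hD' (ne_top_of_isPGroup hG hDp)
  obtain ⟨hFmax, hFne, hFN, E, hc, -, hEnil, hfix⟩ := frobenius_maximal hG hCN hM
  set F := Cfsg.fittingOf M with hFdef
  set N := Subgroup.normalizer (D : Set G) with hNdef
  -- a Sylow subgroup containing all `p`-subgroups of the normalizer
  obtain ⟨T, hT⟩ : ∃ T : Sylow p G, ∀ Q : Subgroup G, IsPGroup p Q → Q ≤ N → Q ≤ (T : Subgroup G) := by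
    by_cases hpF : p ∣ Nat.card F
    · obtain ⟨T, hT⟩ := exists_sylow_le hG hCN hFmax hpF
      refine ⟨T, fun Q hQ hQN y hy => ?_⟩
      have hFT : F = T := (hSmax T).2 F hFmax.1 hT
      have hn : ((T : Subgroup G).subgroupOf M).Normal :=
        Subgroup.normal_subgroupOf_of_le_normalizer (hFT ▸ hFN.ge)
      let T₀ : Sylow p M := T.subtype (hFT ▸ Subgroup.map_subtype_le _)
      haveI := Sylow.unique_of_normal T₀ hn
      obtain ⟨R, hR⟩ := (hQ.comap_of_injective M.subtype M.subtype_injective).exists_le_sylow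
      rw [Subsingleton.elim R T₀] at hR
      exact hR (show (⟨y, hNM (hQN hy)⟩ : M) ∈ Q.comap M.subtype from hy)
    · have hNF : N ⊓ F = ⊥ := by
        rw [eq_bot_iff]
        rintro x ⟨hxN, hxF⟩
        obtain ⟨⟨d, hd'⟩, hd1⟩ := Subgroup.ne_bot_iff_exists_ne_one.1 hD'
        have hd1' : d ≠ 1 := fun e => hd1 (Subtype.ext e)
        have hdM : d ∈ M := hNM (Subgroup.le_normalizer hd')
        have hdF : d ∉ F := fun hdF => by
          obtain ⟨j, hj⟩ := IsPGroup.iff_orderOf.1 hDp ⟨d, hd'⟩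
          rw [← Subgroup.orderOf_coe] at hj
          have h1 : orderOf d ∣ Nat.card F := (Subgroup.orderOf_mk d hdF) ▸ orderOf_dvd_natCard (⟨d, hdF⟩ : F)
          rcases Nat.eq_zero_or_pos j with rfl | hj0
          · exact hd1' (orderOf_eq_one_iff.1 (hj.trans (pow_zero p)))
          · exact hpF ((dvd_pow_self p hj0.ne').trans (hj ▸ h1))
        have h2 : x * d * x⁻¹ * d⁻¹ ∈ F ⊓ D := by
          refine ⟨?_, D.mul_mem ((Subgroup.mem_normalizer_iff.1 hxN d).1 hd') (D.inv_mem hd')⟩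
          rw [show x * d * x⁻¹ * d⁻¹ = x * (d * x⁻¹ * d⁻¹) by group]
          exact F.mul_mem hxF ((Subgroup.mem_normalizer_iff.1 (hFN.ge hdM) _).1 (F.inv_mem hxF))
        have hFD : F ⊓ D = ⊥ := Subgroup.inf_eq_bot_of_coprime (by
          obtain ⟨i, hi⟩ := hDp.exists_card_eq
          rw [hi]
          exact (((Nat.Prime.coprime_iff_not_dvd hp).2 hpF).pow_left i).symm)
        rw [hFD, Subgroup.mem_bot, mul_inv_eq_one, mul_inv_eq_iff_eq_mul] at h2
        exact (fix_all hCN hc hFN.ge hfix d hdM hdF) ▸ ⟨hxF, Subgroup.mem_centralizer_singleton_iff.2 h2⟩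
      haveI hNnil : Group.IsNilpotent N := by
        haveI hFn' : (F.subgroupOf M).Normal := Subgroup.normal_subgroupOf_of_le_normalizer hFN.ge
        haveI := hEnil
        haveI : Group.IsNilpotent (↥M ⧸ F.subgroupOf M) :=
          Group.nilpotent_of_surjective ((QuotientGroup.mk' (F.subgroupOf M)).comp (Subgroup.inclusion hc.2.1)) fun z => by
            obtain ⟨m, rfl⟩ := QuotientGroup.mk'_surjective _ z
            obtain ⟨a, ha, b, hb, hab⟩ := hc.2.2.2 (m : G) m.2
            refine ⟨⟨b, hb⟩, ?_⟩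
            rw [show m = (⟨a, hc.1 ha⟩ : M) * Subgroup.inclusion hc.2.1 ⟨b, hb⟩ from Subtype.ext hab, map_mul,
              show QuotientGroup.mk' (F.subgroupOf M) (⟨a, hc.1 ha⟩ : M) = 1 from
                (QuotientGroup.eq_one_iff _).2 (Subgroup.mem_subgroupOf.2 ha), one_mul]
            rfl
        refine isNilpotent_of_inj ((QuotientGroup.mk' (F.subgroupOf M)).comp (Subgroup.inclusion hNM))
          ((injective_iff_map_eq_one _).2 fun x hx => Subtype.ext (Subgroup.mem_bot.1 (hNF ▸ ⟨x.2, ?_⟩)))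
        exact Subgroup.mem_subgroupOf.1 ((QuotientGroup.eq_one_iff (Subgroup.inclusion hNM x)).1 hx)
      obtain ⟨R⟩ : Nonempty (Sylow p N) := inferInstance
      obtain ⟨T, hT⟩ := (R.isPGroup'.map N.subtype).exists_le_sylow
      refine ⟨T, fun Q hQ hQN y hy => hT ?_⟩
      haveI := Sylow.unique_of_normal R inferInstance
      obtain ⟨R', hR'⟩ := (hQ.comap_of_injective N.subtype N.subtype_injective).exists_le_sylow
      rw [Subsingleton.elim R' R] at hR'
      exact ⟨⟨y, hQN hy⟩, hR' hy, rfl⟩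
  -- both Sylow subgroups equal `T`
  have key : ∀ U : Sylow p G, D < (U : Subgroup G) → U = T := by
    intro U hlt
    by_contra hUT
    have hgrow := CfsgLib.Signalizer.exists_mem_normalizer_of_lt U.isPGroup' hlt
    have hle : (U : Subgroup G) ⊓ N ≤ (U : Subgroup G) ⊓ T :=
      le_inf inf_le_left (hT _ (U.isPGroup'.to_le inf_le_left) inf_le_right)
    have hDle : D ≤ (U : Subgroup G) ⊓ T := le_trans (le_inf hlt.le Subgroup.le_normalizer) hle
    have hlt' : D < (U : Subgroup G) ⊓ T := lt_of_le_of_ne hDle fun e => hgrow (hle.trans e.ge)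
    have hne2 : (U : Subgroup G) ⊓ T ≠ ⊥ := fun e => hD' (le_bot_iff.1 (e ▸ hDle))
    have hc1 : Nat.card D < Nat.card ↥((U : Subgroup G) ⊓ T) := by
      refine lt_of_le_of_ne (Subgroup.card_le_of_le hDle) fun e => hlt'.ne (Subgroup.eq_of_le_of_card_ge hDle e.ge)
    exact absurd (hmax (j := (U, T)) ⟨hUT, hne2⟩ hc1.le) (not_le.2 hc1)
  have hS1 : D < (S : Subgroup G) := lt_of_le_of_ne inf_le_left fun e => hne' (Sylow.ext (S.3 S'.isPGroup' (inf_eq_left.1 e)).symm)
  have hS2 : D < (S' : Subgroup G) := lt_of_le_of_ne inf_le_right fun e => hne' (Sylow.ext (S'.3 S.isPGroup' (inf_eq_right.1 e)))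
  exact hne' ((key S hS1).trans (key S' hS2).symm)

/-- The largest normal nilpotent Hall subgroup of a maximal subgroup is its Fitting subgroup. -/
theorem fittingHallOf_eq {M : Subgroup G} (hM : IsCoatom M) : Cfsg.fittingHallOf M = Cfsg.fittingOf M := by
  unfold Cfsg.fittingHallOf Cfsg.fittingOf
  congr 1
  refine le_antisymm (sSup_le fun N hN => CfsgLib.Components.le_fittingSubgroup hN.1 hN.2.1) (le_sSup ?_)
  exact ⟨CfsgLib.Components.fittingSubgroup_normal, CfsgLib.Components.fittingSubgroup_isNilpotent,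
    (maximal_complement hG hCN hM).1⟩

end CfsgLib.CN.MinOdd
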